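import Cfsg.Agent.SUEight.Monomial
import Cfsg.Agent.MaxSub.UnitarySubspace
import Cfsg.Agent.MaxSub.UnitaryDecomposition
import Cfsg.Agent.MaxSub.UnitaryDecompositionOne
import Cfsg.Agent.ExtField.UOddMaximal
import Cfsg.Agent.FormSubfield.Maximal
import Cfsg.Agent.FormSubfield.OrthMaximal
import Cfsg.Agent.TensorUnitary.Main
import Cfsg.Agent.TensorWreathUni.Main

/-!
# Geometric maximal subgroups of `SU₉(q)`

All types; the symplectic-type clause is a hypothesis.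
-/

set_option autoImplicit false

namespace CfsgLib.SUNine

open Matrix Cfsg.Geo CfsgLib.MaxSub

universe u

variable {F : Type u} [Field F] [Fintype F] {q : ℕ}

/-- Nine orthonormal lines. -/
theorem isMaximalIn_lines (hF : Fintype.card F = q ^ 2) (D : Fin 9 → Submodule F (Fin 9 → F))
    (hD : IsNondegenerateMDecomposition (Cfsg.hermForm 9 F q) 1 D) :
    IsMaximalIn (Cfsg.GU 9 F q ⊓ specialLinear (Fin 9) F)
      (decompositionStabilizer D ⊓ (Cfsg.GU 9 F q ⊓ specialLinear (Fin 9) F)) := by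
  obtain ⟨σ, hne, hinv, hσ⟩ := exists_conjEquiv hF
  have hf := isUnitaryForm_hermForm (n := 9) hne hinv hσ
  have hb : Circle.IsBar q σ := ⟨hσ, hF, hne, hinv⟩
  have h2q := Circle.two_le hb
  rcases Nat.lt_or_ge q 3 with hq | hq
  · exact SUEight.isMaximalIn_uLines_two hf hb (by omega) (by norm_num) hD
  by_cases h2 : (2 : F) = 0
  swap
  · exact UMono.isMaximalIn_uDecomposition_one_small hf hb (by norm_num) hq (Or.inl h2) hD
  refine UMono.isMaximalIn_uDecomposition_one_of hf hb (by norm_num) ?_ hD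
  intro M hM hMU g hg hg'
  refine UC.su_le_of_forall_uTv hf hb.eq_pow hb.card (by norm_num)
    (UMono.centres_of_fixer hf hb (by norm_num) hq hM hMU ?_)
  rcases UMono.exists_transvection hf hb le_rfl h2 hM hMU hg hg' with h | ⟨z, hzz, ht, hz3⟩
  · exact h
  · exact UMono.fixer_of_transvection hf hb le_rfl h2 hM hzz ht hz3

/-- Every geometric type is maximal in `SU₉`, given the symplectic-type one. -/
theorem geometric_types (hF : Fintype.card F = q ^ 2)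
    (h8 : ∀ (p : ℕ) (R : Subgroup (Matrix.GeneralLinearGroup (Fin 9) F)), p.Prime → q = p → p % 3 = 2 → Cfsg.Geo.IsSymplecticTypeGroup 3 R → Cfsg.Geo.ActsAbsolutelyIrreducibly (Cfsg.Geo.matrixSet R) → R ≤ Cfsg.Geo.similarityGroup (Cfsg.hermForm 9 F q) → Nat.card R = 243 → Nat.card (Subgroup.center R) = 3 → Cfsg.Geo.IsMaximalIn (Cfsg.GU 9 F q ⊓ Cfsg.Geo.specialLinear (Fin 9) F) (Cfsg.Geo.subgroupNormalizer R ⊓ (Cfsg.GU 9 F q ⊓ Cfsg.Geo.specialLinear (Fin 9) F))) :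
    (∀ W : Submodule F (Fin 9 → F), W ≠ ⊥ → Cfsg.Geo.IsTotallySingularFor (Cfsg.hermForm 9 F q) W → Cfsg.Geo.IsMaximalIn (Cfsg.GU 9 F q ⊓ Cfsg.Geo.specialLinear (Fin 9) F) (Cfsg.Geo.subspaceStabilizer W ⊓ (Cfsg.GU 9 F q ⊓ Cfsg.Geo.specialLinear (Fin 9) F))) ∧
    (∀ W : Submodule F (Fin 9 → F), W ≠ ⊥ → Cfsg.Geo.IsNondegenerateOn (Cfsg.hermForm 9 F q) W → 2 * Module.finrank F W < 9 → Cfsg.Geo.IsMaximalIn (Cfsg.GU 9 F q ⊓ Cfsg.Geo.specialLinear (Fin 9) F) (Cfsg.Geo.subspaceStabilizer W ⊓ (Cfsg.GU 9 F q ⊓ Cfsg.Geo.specialLinear (Fin 9) F))) ∧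
    (∀ D : Fin 9 → Submodule F (Fin 9 → F), Cfsg.Geo.IsNondegenerateMDecomposition (Cfsg.hermForm 9 F q) 1 D → Cfsg.Geo.IsMaximalIn (Cfsg.GU 9 F q ⊓ Cfsg.Geo.specialLinear (Fin 9) F) (Cfsg.Geo.decompositionStabilizer D ⊓ (Cfsg.GU 9 F q ⊓ Cfsg.Geo.specialLinear (Fin 9) F))) ∧
    (∀ D : Fin 3 → Submodule F (Fin 9 → F), Cfsg.Geo.IsNondegenerateMDecomposition (Cfsg.hermForm 9 F q) 3 D → Cfsg.Geo.IsMaximalIn (Cfsg.GU 9 F q ⊓ Cfsg.Geo.specialLinear (Fin 9) F) (Cfsg.Geo.decompositionStabilizer D ⊓ (Cfsg.GU 9 F q ⊓ Cfsg.Geo.specialLinear (Fin 9) F))) ∧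
    (∀ K : Subalgebra F (Matrix (Fin 9) (Fin 9) F), Cfsg.Geo.IsFieldSubalgebra 3 K → Cfsg.Geo.IsAdjointClosedFor (Cfsg.hermForm 9 F q) K → Cfsg.Geo.IsMaximalIn (Cfsg.GU 9 F q ⊓ Cfsg.Geo.specialLinear (Fin 9) F) (Cfsg.Geo.subalgebraNormalizer K ⊓ (Cfsg.GU 9 F q ⊓ Cfsg.Geo.specialLinear (Fin 9) F))) ∧
    (∀ (F₀ : Subfield F) (r : ℕ) (P : Matrix.GeneralLinearGroup (Fin 9) F), r.Prime → Odd r → Fintype.card F = Nat.card F₀ ^ r → Cfsg.Geo.IsFormRationalStructure (Cfsg.hermForm 9 F q) F₀ 1 P → Cfsg.Geo.IsMaximalIn (Cfsg.GU 9 F q ⊓ Cfsg.Geo.specialLinear (Fin 9) F) (Cfsg.Geo.subfieldSubgroup F₀ P ⊓ (Cfsg.GU 9 F q ⊓ Cfsg.Geo.specialLinear (Fin 9) F))) ∧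
    (Odd q → ∀ (F₀ : Subfield F) (P : Matrix.GeneralLinearGroup (Fin 9) F), Fintype.card F = Nat.card F₀ ^ 2 → Cfsg.Geo.IsFormRationalStructure (Cfsg.hermForm 9 F q) F₀ 1 P → Cfsg.Geo.IsMaximalIn (Cfsg.GU 9 F q ⊓ Cfsg.Geo.specialLinear (Fin 9) F) (Cfsg.Geo.subfieldSubgroup F₀ P ⊓ (Cfsg.GU 9 F q ⊓ Cfsg.Geo.specialLinear (Fin 9) F))) ∧
    (∀ (p : ℕ) (R : Subgroup (Matrix.GeneralLinearGroup (Fin 9) F)), p.Prime → q = p → p % 3 = 2 → Cfsg.Geo.IsSymplecticTypeGroup 3 R → Cfsg.Geo.ActsAbsolutelyIrreducibly (Cfsg.Geo.matrixSet R) → R ≤ Cfsg.Geo.similarityGroup (Cfsg.hermForm 9 F q) → Nat.card R = 243 → Nat.card (Subgroup.center R) = 3 → Cfsg.Geo.IsMaximalIn (Cfsg.GU 9 F q ⊓ Cfsg.Geo.specialLinear (Fin 9) F) (Cfsg.Geo.subgroupNormalizer R ⊓ (Cfsg.GU 9 F q ⊓ Cfsg.Geo.specialLinear (Fin 9) F))) ∧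
    (3 ≤ q → ∀ (e : Fin 9 ≃ (Fin 2 → Fin 3)) (P : Matrix.GeneralLinearGroup (Fin 9) F) (f₁ : (Fin 3 → F) → (Fin 3 → F) → F), Cfsg.Geo.IsUnitaryFormPow q f₁ → Cfsg.Geo.IsTensorPowerFormStructure (fun x : F => x ^ q) (Cfsg.hermForm 9 F q) f₁ e P → Cfsg.Geo.IsMaximalIn (Cfsg.GU 9 F q ⊓ Cfsg.Geo.specialLinear (Fin 9) F) (Cfsg.Geo.tensorWreathSubgroup 3 2 e P ⊓ (Cfsg.GU 9 F q ⊓ Cfsg.Geo.specialLinear (Fin 9) F))) := by
  obtain ⟨σ, hne, hinv, hσ⟩ := exists_conjEquiv hF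
  have hf := isUnitaryForm_hermForm (n := 9) hne hinv hσ
  refine ⟨fun _ h0 h => UC.isMaximalIn_uSingular hf hσ hF (by norm_num) h0 h,
    fun _ h0 h hd => UC.isMaximalIn_uNondeg hf hσ hF (by norm_num) h0 h hd,
    fun _ hD => isMaximalIn_lines hF _ hD,
    fun _ hD => UC.isMaximalIn_uDecomposition hf hσ hF (by norm_num) hD (by norm_num) (by omega),
    fun _ hK hac => ExtField.isMaximalIn_suGL hF (by norm_num) Nat.prime_three (by decide)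
      (by norm_num) (by norm_num) (Or.inr (by norm_num)) hK hac,
    fun F₀ r P hr hro hcard hP =>
      FormSubfield.isMaximalIn_suSubfield_odd 9 q hF (by norm_num) F₀ r hr hro hcard P hP,
    fun hodd F₀ P hcard hP =>
      FormSubfield.isMaximalIn_suSubfield_orth 9 q hF (by norm_num) hodd F₀ hcard P hP,
    h8, fun hq e P f₁ hf₁ hT => ?_⟩
  have h₁ : IsUnitaryForm σ f₁ := ⟨hne, hinv, hf₁.add_left, hf₁.smul_left,
    fun v w => by rw [hσ]; exact hf₁.herm v w, hf₁.nondegenerate⟩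
  exact TWU.isMaximalIn_tensorWreath hF hσ (by norm_num) le_rfl
    ⟨le_rfl, fun _ => TensorUnitary.exists_fixed_ne hF hσ (by omega)⟩ e P h₁ hT

end CfsgLib.SUNine
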